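import Cfsg.Agent.Blocks.Covering.Basic
import Cfsg.Agent.Blocks.Basic.Residue
import Cfsg.Agent.Chars.Basic.Rep

/-!
Blocks of a normal subgroup of index two: every member lies under a member of one covering
block, and the regular rank grows by at most the number of characters vanishing off the subgroup.
-/

set_option autoImplicit false

namespace CfsgLib.AltBlocks69

open Cfsg CfsgLib.Blocks CfsgLib.Chars.Induced

universe u

variable {G : Type u} [Group G] [Fintype G] {M : Ideal AlgInt} [M.IsMaximal]
variable {N : Subgroup G} [N.Normal] [Fintype N]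

/-- The induced central characters of two members of one block are congruent. -/
theorem congr_inducedCentralChar {θ θ' : IrrCharacter N}
    (h : SameBlock M (θ : N → ℂ) (θ' : N → ℂ)) (g : G) :
    Congr M (inducedCentralChar N (θ : N → ℂ) g) (inducedCentralChar N (θ' : N → ℂ) g) := by
  classical
  set f : N → ℂ := fun n => if IsConj g (n : G) then 1 else 0 with hf
  have hz : ofFun f ∈ centerO M N := by
    refine ⟨isCentralElt_ofFun fun a b => ?_, fun n => ?_⟩
    · have hc : IsConj g (((b * a * b⁻¹ : N)) : G) ↔ IsConj g (a : G) := by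
        simp only [Subgroup.coe_mul, Subgroup.coe_inv]
        exact ⟨fun h => h.trans (isConj_iff.mpr ⟨(b : G)⁻¹, by group⟩),
          fun h => h.trans (isConj_iff.mpr ⟨b, rfl⟩)⟩
      simp only [hf, hc]
    · show MemLocalRing M ((ofFun f).coeff n)
      rw [coeff_ofFun]
      simp only [hf]
      split_ifs
      · exact (localRing M).one_mem
      · exact (localRing M).zero_mem
  have e : ∀ φ : IrrCharacter N,
      omega (φ : N → ℂ) (ofFun f) = inducedCentralChar N (φ : N → ℂ) g := fun φ => by
    rw [omega_ofFun, BlocksCover.inducedCentralChar_eq_sum]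
    refine Finset.sum_congr rfl fun n _ => ?_
    simp only [hf]
    split_ifs <;> simp
  rw [← e θ, ← e θ']
  exact congr_omega_of_sameBlock hz h

/-- Congruence on the subgroup fixes the products of outside central characters. -/
theorem congr_centralChar_mul (hN : N.index = 2) {χ ψ : IrrCharacter G}
    (h : ∀ n : N, Congr M (centralChar (χ : G → ℂ) (n : G)) (centralChar (ψ : G → ℂ) (n : G)))
    {g k : G} (hg : g ∉ N) (hk : k ∉ N) :
    Congr M (centralChar (χ : G → ℂ) g * centralChar (χ : G → ℂ) k)
      (centralChar (ψ : G → ℂ) g * centralChar (ψ : G → ℂ) k) := by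
  classical
  haveI : Fintype (ConjClasses G) := Fintype.ofFinite _
  have hcl : ∀ φ : IrrCharacter G, IsClassFunction G (φ : G → ℂ) := fun φ =>
    Blocks.isClassFunction_of_isCharacter (isCharacter_of_isIrrCharacter φ.2)
  have hz : classSum g * classSum k ∈ centerO M G :=
    (centerO M G).mul_mem (classSum_mem g) (classSum_mem k)
  have hsupp : ∀ x : G, x ∉ N → (classSum g * classSum k).coeff x = 0 := by
    intro x hx
    by_contra hne
    obtain ⟨a, ha, b, hb, rfl⟩ := Finset.mem_mul.1
      (MonoidAlgebra.support_coeff_mul_subset _ _ (Finsupp.mem_support_iff.2 hne))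
    rw [Finsupp.mem_support_iff, coeff_classSum] at ha hb
    obtain ⟨c, rfl⟩ := isConj_iff.mp (of_not_not fun h' => ha (if_neg h'))
    obtain ⟨d, rfl⟩ := isConj_iff.mp (of_not_not fun h' => hb (if_neg h'))
    refine hx ((Subgroup.mul_mem_iff_of_index_two hN).2 ?_)
    rw [Subgroup.Normal.mem_comm_iff ‹N.Normal›, ← mul_assoc, inv_mul_cancel, one_mul,
      Subgroup.Normal.mem_comm_iff ‹N.Normal›, ← mul_assoc, inv_mul_cancel, one_mul]
    exact iff_of_false hg hk
  have e : ∀ φ : IrrCharacter G, centralChar (φ : G → ℂ) g * centralChar (φ : G → ℂ) k =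
      omega (φ : G → ℂ) (classSum g * classSum k) := fun φ => by
    rw [omega_mul φ.2 (isCentralElt_classSum g), centralChar_eq_omega (hcl φ),
      centralChar_eq_omega (hcl φ)]
  rw [e χ, e ψ, omega_eq_sum_classes hz.1 (hcl χ), omega_eq_sum_classes hz.1 (hcl ψ)]
  refine congr_sum _ fun C _ => ?_
  by_cases hC : C.out ∈ N
  · show MemLocalIdeal M (_ - _)
    rw [← mul_sub]
    exact memLocalIdeal_mul_left (hz.2 _) (h ⟨_, hC⟩)
  · rw [hsupp _ hC, zero_mul, zero_mul]
    exact congr_refl _

/-- The nontrivial linear character with kernel containing `N`. -/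
noncomputable def signOf (hN : N.index = 2) : G →* ℂˣ :=
  haveI : DecidablePred (· ∈ N) := Classical.decPred _
  { toFun := fun g => if g ∈ N then 1 else -1
    map_one' := if_pos N.one_mem
    map_mul' := fun a b => by
      have hab := Subgroup.mul_mem_iff_of_index_two hN (a := a) (b := b)
      by_cases ha : a ∈ N <;> by_cases hb : b ∈ N <;> simp_all }

theorem signOf_apply_mem (hN : N.index = 2) {g : G} (hg : g ∈ N) : (signOf hN g : ℂ) = 1 := by
  simp [signOf, hg]

theorem signOf_apply_notMem (hN : N.index = 2) {g : G} (hg : g ∉ N) : (signOf hN g : ℂ) = -1 := by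
  simp [signOf, hg]

/-- The product with `signOf`. -/
noncomputable def signTwist (hN : N.index = 2) (χ : IrrCharacter G) : IrrCharacter G :=
  ⟨fun g => (signOf hN g : ℂ) * (χ : G → ℂ) g, CfsgLib.Chars.isIrrCharacter_linear_mul χ.2 _⟩

theorem signTwist_apply (hN : N.index = 2) (χ : IrrCharacter G) (g : G) :
    (signTwist hN χ : G → ℂ) g = (signOf hN g : ℂ) * (χ : G → ℂ) g := rfl

theorem centralChar_signTwist (hN : N.index = 2) (χ : IrrCharacter G) (g : G) :
    centralChar (signTwist hN χ : G → ℂ) g = (signOf hN g : ℂ) * centralChar (χ : G → ℂ) g := by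
  simp only [centralChar, signTwist_apply, map_one, Units.val_one, one_mul]
  ring

/-- Congruence on a subgroup of index two: the blocks agree up to the sign twist. -/
theorem sameBlock_or_twist (hN : N.index = 2) {χ ψ : IrrCharacter G}
    (h : ∀ n : N, Congr M (centralChar (χ : G → ℂ) (n : G)) (centralChar (ψ : G → ℂ) (n : G))) :
    SameBlock M (χ : G → ℂ) (ψ : G → ℂ) ∨ SameBlock M (χ : G → ℂ) (signTwist hN ψ : G → ℂ) := by
  classical
  set a : G → kres M := fun g => res M ⟨_, memLocalRing_centralChar χ g⟩ with ha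
  set b : G → kres M := fun g => res M ⟨_, memLocalRing_centralChar ψ g⟩ with hb
  have hin : ∀ n : N, a n = b n := fun n => (res_eq_res_iff (M := M) (x := ⟨_, memLocalRing_centralChar χ (n : G)⟩) (y := ⟨_, memLocalRing_centralChar ψ (n : G)⟩)).2 (h n)
  have hmul : ∀ g k : G, g ∉ N → k ∉ N → a g * a k = b g * b k := fun g k hg hk => by
    simp only [ha, hb, ← map_mul]
    exact res_eq_res_iff.2 (congr_centralChar_mul hN h hg hk)
  have htw : ∀ g : G, g ∉ N →
      res M ⟨_, memLocalRing_centralChar (signTwist hN ψ) g⟩ = -b g := fun g hg => by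
    simp only [hb, ← map_neg]
    congr 1
    apply Subtype.ext
    show centralChar (signTwist hN ψ : G → ℂ) g = -centralChar (ψ : G → ℂ) g
    rw [centralChar_signTwist, signOf_apply_notMem hN hg, neg_one_mul]
  by_cases hall : ∀ g : G, g ∉ N → a g = b g
  · left
    intro g
    by_cases hg : g ∈ N
    · exact h ⟨g, hg⟩
    · exact res_eq_res_iff.1 (hall g hg)
  · right
    push Not at hall
    obtain ⟨g₀, hg₀, hne⟩ := hall
    have hneg : a g₀ = -b g₀ := by
      rcases mul_self_eq_mul_self_iff.1 (hmul g₀ g₀ hg₀ hg₀) with h1 | h1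
      · exact absurd h1 hne
      · exact h1
    have hb0 : b g₀ ≠ 0 := fun h0 => hne (by rw [hneg, h0, neg_zero])
    intro g
    by_cases hg : g ∈ N
    · rw [centralChar_signTwist, signOf_apply_mem hN hg, one_mul]
      exact h ⟨g, hg⟩
    · refine (res_eq_res_iff (M := M) (x := ⟨_, memLocalRing_centralChar χ g⟩)
        (y := ⟨_, memLocalRing_centralChar (signTwist hN ψ) g⟩)).1 ?_
      show a g = _
      rw [htw g hg]
      refine mul_left_cancel₀ hb0 ?_
      linear_combination (-1 : kres M) * hmul g₀ g hg₀ hg + a g * hneg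

/-- Each member of a block of `N` lies under a member of one covering block. -/
theorem exists_over_mem_block (hN : N.index = 2) {θ₀ θ : IrrCharacter N} {χ₀ : IrrCharacter G}
    (hχ₀ : classInner (fun n : N => (χ₀ : G → ℂ) n) (θ₀ : N → ℂ) ≠ 0)
    (hθ : SameBlock M (θ₀ : N → ℂ) (θ : N → ℂ)) :
    ∃ χ : IrrCharacter G, χ ∈ blockOf M (χ₀ : G → ℂ) ∧
      classInner (fun n : N => (χ : G → ℂ) n) (θ : N → ℂ) ≠ 0 := by
  obtain ⟨χ, hχ⟩ := BlocksCover.exists_irr_over N θ
  have h : ∀ n : N, Congr M (centralChar (χ₀ : G → ℂ) (n : G)) (centralChar (χ : G → ℂ) (n : G)) := by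
    intro n
    rw [(BlocksCover.constituent_iff_centralChar χ₀ θ₀).1 hχ₀ n,
      (BlocksCover.constituent_iff_centralChar χ θ).1 hχ n]
    exact congr_inducedCentralChar hθ _
  rcases sameBlock_or_twist hN h with hs | hs
  · exact ⟨χ, hs, hχ⟩
  · refine ⟨signTwist hN χ, hs, ?_⟩
    have e : (fun n : N => (signTwist hN χ : G → ℂ) n) = fun n : N => (χ : G → ℂ) n := by
      funext n
      rw [signTwist_apply, signOf_apply_mem hN n.2, one_mul]
    rwa [e]

/-- Restriction of functions to the subgroup. -/
def restrictLin (N : Subgroup G) : (G → ℂ) →ₗ[ℂ] (N → ℂ) where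
  toFun f := fun n => f n
  map_add' _ _ := rfl
  map_smul' _ _ := rfl

/-- The regular rank of a block of a subgroup of index two, by the restricted span of a covering
block. -/
theorem exists_cover_blockRank_le_restrict (p : ℕ) (hN : N.index = 2) {b : Set (IrrCharacter N)}
    (hb : IsPBlock M b) :
    ∃ B : Set (IrrCharacter G), IsPBlock M B ∧
      (∀ θ ∈ b, ∃ χ ∈ B, classInner (fun n : N => (χ : G → ℂ) n) (θ : N → ℂ) ≠ 0) ∧
      blockRank p b ≤ Module.finrank ℂ ↥((Submodule.span ℂ
          ((fun χ : IrrCharacter G => pRegularPart p (χ : G → ℂ)) '' B)).map (restrictLin N)) +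
        {χ : IrrCharacter G | χ ∈ B ∧ ∀ g : G, g ∉ N → (χ : G → ℂ) g = 0}.ncard := by
  classical
  obtain ⟨θ₀, rfl⟩ := hb
  obtain ⟨χ₀, hχ₀⟩ := BlocksCover.exists_irr_over N θ₀
  set B := blockOf M (χ₀ : G → ℂ)
  refine ⟨B, ⟨χ₀, rfl⟩, fun θ hθ => exists_over_mem_block hN hχ₀ hθ, ?_⟩
  haveI : Finite (IrrCharacter G) := inferInstance
  set SA : Set (IrrCharacter G) := {χ | χ ∈ B ∧ ∀ g : G, g ∉ N → (χ : G → ℂ) g = 0}
  haveI : Fintype SA := Fintype.ofFinite _
  let R : (G → ℂ) →ₗ[ℂ] (N → ℂ) := restrictLin N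
  have hreg : ∀ (χ : G → ℂ), R (pRegularPart p χ) = pRegularPart p (fun n : N => χ n) := by
    intro χ
    funext n
    show pRegularPart p χ (n : G) = _
    by_cases h : p ∣ orderOf n <;> simp [pRegularPart, IsPRegular, h]
  let c : IrrCharacter G → IrrCharacter N := fun χ =>
    (BlocksCover.exists_constituent χ N).choose
  set W := (Submodule.span ℂ ((fun χ : IrrCharacter G => pRegularPart p (χ : G → ℂ)) '' B)).map R
  set U := Submodule.span ℂ (Set.range fun χ : SA => pRegularPart p (c χ.1 : N → ℂ))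
  have hsub : Submodule.span ℂ ((fun θ : IrrCharacter N => pRegularPart p (θ : N → ℂ)) ''
      blockOf M (θ₀ : N → ℂ)) ≤ W ⊔ U := by
    rw [Submodule.span_le]
    rintro _ ⟨θ, hθ, rfl⟩
    obtain ⟨χ, hχB, hχ⟩ := exists_over_mem_block hN hχ₀ hθ
    have hm := (BlocksCover.mult_ne_zero_iff χ θ).1 hχ
    have hcl := clifford χ θ hm
    set S := (Set.finite_range fun x : G => conjIrr x θ).toFinset with hS
    set e : ℂ := (mult (fun n : N => (χ : G → ℂ) n) θ : ℂ)
    have he : e ≠ 0 := Nat.cast_ne_zero.2 hm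
    have hW : pRegularPart p (fun n : N => (χ : G → ℂ) n) ∈ W :=
      ⟨_, Submodule.subset_span ⟨χ, hχB, rfl⟩, hreg _⟩
    have hexp : pRegularPart p (fun n : N => (χ : G → ℂ) n) =
        e • ∑ η ∈ S, pRegularPart p (η : N → ℂ) := by
      funext n
      by_cases hn : IsPRegular p n
      · simp [pRegularPart, hn, Finset.sum_apply, congrFun hcl n]
      · simp [pRegularPart, hn, Finset.sum_apply]
    have hsum : ∑ η ∈ S, pRegularPart p (η : N → ℂ) ∈ W := by
      have := W.smul_mem e⁻¹ hW
      rwa [hexp, smul_smul, inv_mul_cancel₀ he, one_smul] at this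
    have hθS : θ ∈ S := (Set.finite_range _).mem_toFinset.2 ⟨1, conjIrr_one θ⟩
    by_cases hfix : ∀ x : G, conjIrr x θ = θ
    · have hS1 : S = {θ} := Finset.ext fun η => by
        rw [hS, Set.Finite.mem_toFinset, Finset.mem_singleton]
        exact ⟨fun ⟨x, hx⟩ => hx ▸ hfix x, fun h => ⟨1, h ▸ conjIrr_one θ⟩⟩
      rw [hS1, Finset.sum_singleton] at hsum
      exact Submodule.mem_sup_left hsum
    push Not at hfix
    obtain ⟨x₀, hx₀⟩ := hfix
    have hle : N ≤ inertia N (θ : N → ℂ) :=
      le_inertia (Blocks.isClassFunction_of_isCharacter (isCharacter_of_isIrrCharacter θ.2))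
    have hin : ∀ x : G, x ∈ inertia N (θ : N → ℂ) → x ∈ N := by
      intro x hx
      by_contra hxN
      apply hx₀
      apply Subtype.ext
      show conjFun N x₀ (θ : N → ℂ) = _
      refine mem_inertia.1 ?_
      by_cases h0 : x₀ ∈ N
      · exact hle h0
      · have h1 : x₀ * x⁻¹ ∈ N := by
          rw [Subgroup.mul_mem_iff_of_index_two hN]
          exact iff_of_false h0 fun h => hxN (inv_inv x ▸ N.inv_mem h)
        simpa using mul_mem (hle h1) hx
    have hT : N = inertia N (θ : N → ℂ) := le_antisymm hle hin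
    obtain ⟨ψ, -, hψ⟩ := exists_indFun_eq hT le_rfl χ hm
    have hχSA : χ ∈ SA := ⟨hχB, fun g hg => by
      rw [← hψ]
      refine indFun_eq_zero_of_forall _ fun y => ?_
      intro hy
      exact hg (by simpa [mul_assoc] using (Subgroup.Normal.conj_mem ‹N.Normal› _ hy y))⟩
    have hc : c χ ∈ S := by
      have h2 := (BlocksCover.mult_ne_zero_iff χ (c χ)).1
        (BlocksCover.exists_constituent χ N).choose_spec
      exact (Set.finite_range _).mem_toFinset.2 (mem_conjOrbit_of_mult_ne_zero χ θ (c χ) hm h2)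
    have hcU : pRegularPart p (c χ : N → ℂ) ∈ U := Submodule.subset_span ⟨⟨χ, hχSA⟩, rfl⟩
    by_cases hcθ : c χ = θ
    · rw [hcθ] at hcU
      exact Submodule.mem_sup_right hcU
    have hS2 : S = {θ, c χ} := by
      refine Finset.ext fun η => ?_
      simp only [Finset.mem_insert, Finset.mem_singleton]
      constructor
      · intro hη
        obtain ⟨x, rfl⟩ := (Set.finite_range _).mem_toFinset.1 hη
        obtain ⟨y, hy⟩ := (Set.finite_range _).mem_toFinset.1 hc
        rw [← hy]
        by_cases hx : x ∈ N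
        · exact Or.inl (Subtype.ext (mem_inertia.1 (hle hx)))
        · right
          have hyN : y ∉ N := fun h => hcθ (hy ▸ Subtype.ext (mem_inertia.1 (hle h)))
          have h1 : y⁻¹ * x ∈ N := by
            rw [Subgroup.mul_mem_iff_of_index_two hN]
            exact iff_of_false (fun h => hyN (inv_inv y ▸ N.inv_mem h)) hx
          show conjIrr x θ = conjIrr y θ
          rw [show x = y * (y⁻¹ * x) by group, conjIrr_mul]
          congr 1
          exact Subtype.ext (mem_inertia.1 (hle h1))
      · rintro (rfl | rfl)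
        · exact hθS
        · exact hc
    rw [hS2, Finset.sum_pair fun h => hcθ h.symm] at hsum
    rw [SetLike.mem_coe]
    have := (W ⊔ U).sub_mem (Submodule.mem_sup_left hsum) (Submodule.mem_sup_right hcU)
    simpa using this
  calc blockRank p (blockOf M (θ₀ : N → ℂ))
      ≤ Module.finrank ℂ ↥(W ⊔ U) := Submodule.finrank_mono hsub
    _ ≤ Module.finrank ℂ W + Module.finrank ℂ U := Submodule.finrank_add_le_finrank_add_finrank _ _
    _ ≤ Module.finrank ℂ W + SA.ncard := add_le_add le_rfl
        ((finrank_range_le_card _).trans_eq (by rw [← Nat.card_coe_set_eq, Nat.card_eq_fintype_card]))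

/-- The regular rank of a block of a subgroup of index two. -/
theorem exists_cover_blockRank_le (p : ℕ) (hN : N.index = 2) {b : Set (IrrCharacter N)}
    (hb : IsPBlock M b) :
    ∃ B : Set (IrrCharacter G), IsPBlock M B ∧
      (∀ θ ∈ b, ∃ χ ∈ B, classInner (fun n : N => (χ : G → ℂ) n) (θ : N → ℂ) ≠ 0) ∧
      blockRank p b ≤ blockRank p B +
        {χ : IrrCharacter G | χ ∈ B ∧ ∀ g : G, g ∉ N → (χ : G → ℂ) g = 0}.ncard := by
  obtain ⟨B, hB, hcov, hle⟩ := exists_cover_blockRank_le_restrict p hN hb
  exact ⟨B, hB, hcov, hle.trans (add_le_add (Submodule.finrank_map_le _ _) le_rfl)⟩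

end CfsgLib.AltBlocks69
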