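import Cfsg.Agent.Blocks.Covering.Basic
import Cfsg.Agent.Blocks.Subsection.Major
import Cfsg.Agent.Eq.Def_Blocks
import Cfsg.Agent.S0914
import Cfsg.Agent.S0189

/-!
A block of a subgroup of index two lying under a character that vanishes on the `p`-singular
elements has trivial defect group.
-/

set_option autoImplicit false

namespace CfsgLib.AltBlocks69

open Cfsg CfsgLib.Blocks CfsgLib.Chars CfsgLib.Chars.Induced

universe u

variable {G : Type u} [Group G] [Fintype G] {N : Subgroup G} [N.Normal] [Fintype N]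

/-- The degree over a constituent of a subgroup of index two divides twice its degree. -/
theorem charDegree_dvd_two_mul (hN : N.index = 2) (χ : IrrCharacter G) (θ : IrrCharacter N)
    (hm : mult (fun n : N => (χ : G → ℂ) n) θ ≠ 0) :
    charDegree (χ : G → ℂ) ∣ 2 * charDegree (θ : N → ℂ) := by
  classical
  set e := mult (fun n : N => (χ : G → ℂ) n) θ with he
  set i := (inertia N (θ : N → ℂ)).index with hi
  have h1 := clifford_one χ θ hm
  rw [← coe_charDegree χ, ← coe_charDegree θ, ← Nat.cast_mul, ← Nat.cast_mul, Nat.cast_inj] at h1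
  have hΦ := isCharacter_indFun N (isCharacter_coe θ)
  obtain ⟨s, hmem, hs⟩ := exists_eq_sum_mult hΦ
  have hmΦ : mult (indFun N (θ : N → ℂ)) χ = e := by rw [mult_indFun_irr]
  have hχs : χ ∈ s := (hmem χ).2 (by rw [hmΦ]; exact hm)
  have hsum : 2 * charDegree (θ : N → ℂ) =
      ∑ η ∈ s, mult (indFun N (θ : N → ℂ)) η * charDegree (η : G → ℂ) := by
    apply Nat.cast_injective (R := ℂ)
    rw [Nat.cast_mul, coe_charDegree θ, ← hN, ← indFun_one_apply, Nat.cast_sum]
    conv_lhs => rw [hs]
    simp [Finset.sum_apply, coe_charDegree]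
  have hle : e * charDegree (χ : G → ℂ) ≤ 2 * charDegree (θ : N → ℂ) := by
    rw [hsum, ← hmΦ]
    exact Finset.single_le_sum (f := fun η : IrrCharacter G => mult (indFun N (θ : N → ℂ)) η * charDegree (η : G → ℂ))
      (fun _ _ => Nat.zero_le _) hχs
  rw [h1] at hle ⊢
  have hθ := charDegree_pos θ
  have he0 : 0 < e := Nat.pos_of_ne_zero hm
  have hi0 : 0 < i := Nat.pos_of_ne_zero Subgroup.index_ne_zero_of_finite
  have h2 : e * e * i ≤ 2 := by
    refine Nat.le_of_mul_le_mul_right ?_ hθ
    calc e * e * i * charDegree (θ : N → ℂ) = e * (e * i * charDegree (θ : N → ℂ)) := by ring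
      _ ≤ _ := hle
  have he1 : e = 1 := by
    by_contra h
    have h3 : 2 * 2 * 1 ≤ e * e * i :=
      Nat.mul_le_mul (Nat.mul_le_mul (by omega) (by omega)) hi0
    omega
  rw [← he, ← hi, he1, one_mul]
  rw [he1, one_mul] at h2
  have hi2 : i = 1 ∨ i = 2 := by omega
  rcases hi2 with h | h <;> rw [h]
  exact mul_dvd_mul_right (one_dvd 2) _

/-- A block under a character vanishing off the regular elements has defect zero. -/
theorem defectGroup_eq_bot (hN : N.index = 2) {p : ℕ} [Fact p.Prime] {M : Ideal AlgInt}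
    (hM : IsPModular p M) {b : Set (IrrCharacter N)} (hb : IsPBlock M b) {D : Subgroup N}
    (hD : IsDefectGroup p M b D) {θ : IrrCharacter N} (hθ : θ ∈ b) {χ : IrrCharacter G}
    (hcon : classInner (fun n : N => (χ : G → ℂ) n) (θ : N → ℂ) ≠ 0)
    (hvan : ∀ g : G, ¬ IsPRegular p g → (χ : G → ℂ) g = 0) : D = ⊥ := by
  classical
  obtain ⟨P⟩ : Nonempty (Sylow p G) := inferInstance
  obtain ⟨k, hk⟩ := Cfsg.Agent.S0189.result p P (χ : G → ℂ) (isCharacter_coe χ) fun g hg hg1 => by
    refine hvan g fun hreg => ?_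
    obtain ⟨j, hj⟩ := IsPGroup.iff_orderOf.1 P.isPGroup' ⟨g, hg⟩
    rw [Subgroup.orderOf_mk] at hj
    refine hreg ?_
    rw [hj]
    exact dvd_pow_self p fun hj0 => hg1 (orderOf_eq_one_iff.1 (by rw [hj, hj0, pow_zero]))
  rw [← coe_charDegree χ, ← Nat.cast_mul, Nat.cast_inj] at hk
  have hp : p.Prime := Fact.out
  set v := (Nat.card N).factorization p with hv
  have hG : (Nat.card G).factorization p = v + (2 : ℕ).factorization p := by
    rw [← N.card_mul_index, hN, Nat.factorization_mul Nat.card_pos.ne' (by norm_num),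
      Finsupp.add_apply]
  have hdvd : p ^ (v + (2 : ℕ).factorization p) ∣ 2 * charDegree (θ : N → ℂ) := by
    refine dvd_trans ?_ (charDegree_dvd_two_mul hN χ θ ((BlocksCover.mult_ne_zero_iff χ θ).1 hcon))
    rw [hk, P.card_eq_multiplicity, hG]
    exact dvd_mul_right _ _
  have hθ0 := (charDegree_pos θ).ne'
  have hθv : v ≤ (charDegree (θ : N → ℂ)).factorization p := by
    have h := (hp.pow_dvd_iff_le_factorization (Nat.mul_ne_zero two_ne_zero hθ0)).1 hdvd
    rw [Nat.factorization_mul two_ne_zero hθ0, Finsupp.add_apply] at h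
    omega
  have hθd := charDegree_dvd_card θ
  have hnd : ¬ p ∣ Nat.card N / charDegree (θ : N → ℂ) := by
    intro hdiv
    have hq0 : Nat.card N / charDegree (θ : N → ℂ) ≠ 0 :=
      (Nat.div_pos (Nat.le_of_dvd Nat.card_pos hθd) (charDegree_pos θ)).ne'
    have h1 := (hp.dvd_iff_one_le_factorization hq0).1 hdiv
    rw [Nat.factorization_div hθd, Finsupp.tsub_apply] at h1
    omega
  haveI := isMaximal_of_isPModular hM
  have hsing := (Cfsg.Agent.S0914.result p M hM θ).1 hnd
  rw [← eq_blockOf_of_mem hb hθ] at hsing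
  have hdef : blockDefect p b = 0 := by
    show (Nat.card N).factorization p -
      sInf ((fun ψ : IrrCharacter N => (charDegree (ψ : N → ℂ)).factorization p) '' b) = 0
    rw [hsing, Set.image_singleton, csInf_singleton, Nat.sub_eq_zero_iff_le]
    exact hθv
  refine Subgroup.card_eq_one.1 ?_
  rw [Contrib.natCard_defectGroup hM hb hD, hdef, pow_zero]

end CfsgLib.AltBlocks69
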